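import Cfsg.Agent.MetaResistant.Line
import Cfsg.Agent.Fusion.FactorSat

/-!
Metacyclic strongly closed `p`-subgroups of saturated systems are normal for odd `p`.
-/

set_option autoImplicit false
set_option linter.style.haveILetI false

open Cfsg

namespace CfsgLib.MetaResistant

open Cfsg.FusionSystem CfsgLib.Fusion
open scoped commutatorElement

universe u

lemma isMetacyclic_of_surjective {A B : Type*} [Group A] [Group B] {f : A →* B} (hf : Function.Surjective f)
    (h : Cfsg.IsMetacyclic A) : Cfsg.IsMetacyclic B := by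
  obtain ⟨M, hM, hMc, hQ⟩ := h
  haveI := hM
  haveI : (M.map f).Normal := hM.map f hf
  refine ⟨M.map f, inferInstance, ?_, ?_⟩
  · haveI := hMc
    exact isCyclic_of_surjective _ (MonoidHom.subgroupMap_surjective f M)
  · haveI := hQ
    exact isCyclic_of_surjective _ (QuotientGroup.map_surjective_of_surjective M (M.map f) f
      (QuotientGroup.mk_surjective.comp hf) (Subgroup.le_comap_map f M))

variable {p : ℕ} [hp : Fact p.Prime]

theorem exists_series (hp2 : p ≠ 2) : ∀ (n : ℕ) (Ω : Type u) [Group Ω] (S : Subgroup Ω) [Finite S]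
    (F : Cfsg.FusionSystem S) (P : Subgroup Ω), IsPGroup p S → F.IsSaturated p → F.StronglyClosed P →
    Cfsg.IsMetacyclic P → Nat.card P ≤ n →
    ∃ (C : ℕ → Subgroup Ω) (m : ℕ), Monotone C ∧ C 0 = ⊥ ∧ (∀ i, C i ≤ P) ∧
      (∀ i, ⁅C (i + 1), P⁆ ≤ C i) ∧ (∀ i, F.StronglyClosed (C i)) ∧ C m = P := by
  intro n
  induction n with
  | zero =>
    intro Ω _ S _ F P _ _ hP _ hc
    haveI := finite_of_le hP.1
    exact absurd Nat.card_pos (show ¬ 0 < Nat.card P by omega)
  | succ n ih =>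
  intro Ω _ S _ F P hS hF hP hm hc
  classical
  haveI := finite_of_le hP.1
  by_cases hab : ⁅P, P⁆ = ⊥
  · refine ⟨fun i => if i = 0 then ⊥ else P, 1, ?_, rfl, fun i => ?_, fun i => ?_, fun i => ?_, rfl⟩
    · intro a b h
      show (if a = 0 then ⊥ else P) ≤ if b = 0 then ⊥ else P
      split_ifs with h1 h2
      · exact le_rfl
      · exact bot_le
      · omega
      · exact le_rfl
    · show (if i = 0 then ⊥ else P) ≤ P
      split_ifs
      · exact bot_le
      · exact le_rfl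
    · show ⁅(if i + 1 = 0 then ⊥ else P), P⁆ ≤ (if i = 0 then ⊥ else P)
      rw [if_neg (Nat.succ_ne_zero i), hab]; exact bot_le
    · show F.StronglyClosed (if i = 0 then ⊥ else P)
      split_ifs
      · refine ⟨bot_le, fun R hR φ hφ x => ?_⟩
        rw [Subgroup.mem_bot, show x = 1 from Subtype.ext (Subgroup.mem_bot.1 (hR x.2)), map_one]
      · exact hP
  have hPp : IsPGroup p P := hS.to_le hP.1
  have hnc : ¬ IsCyclic P := by
    intro h
    refine hab (Subgroup.commutator_eq_bot_iff_le_centralizer.2 fun x hx => ?_)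
    exact Subgroup.mem_centralizer_iff.2 fun y hy =>
      congrArg Subtype.val (IsCyclic.commGroup.mul_comm (⟨y, hy⟩ : P) ⟨x, hx⟩)
  obtain ⟨⟨hOab, hOexp⟩, hOc⟩ := CfsgLib.PLocalBasics.metacyclic_omega hp2 hPp hm hnc
  set O := Cfsg.omegaOne p (⊤ : Subgroup P)
  set N : Subgroup Ω := O.map P.subtype with hNdef
  have hNP : N ≤ P := Subgroup.map_subtype_le O
  have hNc : Nat.card N = p ^ 2 := by rw [hNdef, Subgroup.card_subtype, hOc]
  have hNmem : ∀ x ∈ P, x ^ p = 1 → x ∈ N := fun x hx hxp =>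
    ⟨⟨x, hx⟩, Subgroup.subset_closure ⟨Subgroup.mem_top _, Subtype.ext hxp⟩, rfl⟩
  have hNexp : ∀ x ∈ N, x ^ p = 1 := by
    rintro _ ⟨y, hy, rfl⟩
    rw [← map_pow, hOexp y hy, map_one]
  have hNab : ∀ x ∈ N, ∀ y ∈ N, x * y = y * x := by
    rintro _ ⟨a, ha, rfl⟩ _ ⟨b, hb, rfl⟩
    rw [← map_mul, ← map_mul]
    exact congrArg _ (congrArg Subtype.val (hOab.is_comm.comm (⟨a, ha⟩ : O) ⟨b, hb⟩))
  have hNsc : F.StronglyClosed N := by
    refine ⟨hNP.trans hP.1, fun R hR φ hφ x => hNmem _ (hP.2 R (hR.trans hNP) φ hφ x) ?_⟩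
    rw [← map_pow, show x ^ p = 1 from Subtype.ext (hNexp x (hR x.2)), map_one]
  have hN : F.IsNormal N :=
    isNormal_of_abelian hS hF hNsc ⟨⟨fun a b => Subtype.ext (hNab a a.2 b b.2)⟩⟩
  -- the derived subgroup is cyclic
  obtain ⟨M, hMn, hMc, hMq⟩ := id hm
  haveI := hMn
  have hd : (⁅P, P⁆ : Subgroup Ω) ≤ M.map P.subtype := by
    have h0 : ⁅P, P⁆ = (⁅(⊤ : Subgroup P), (⊤ : Subgroup P)⁆).map P.subtype := by
      rw [Subgroup.map_commutator, ← MonoidHom.range_eq_map, Subgroup.range_subtype]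
    rw [h0]
    refine Subgroup.map_mono (Subgroup.commutator_le.2 fun a _ b _ => ?_)
    rw [← QuotientGroup.eq_one_iff, ← QuotientGroup.mk'_apply, map_commutatorElement, commutatorElement_eq_one_iff_mul_comm]
    haveI := hMq
    exact (IsCyclic.commGroup (α := P ⧸ M)).mul_comm _ _
  haveI hDc : IsCyclic ↥(⁅P, P⁆ : Subgroup Ω) := by
    haveI := hMc
    haveI : IsCyclic ↥(M.map P.subtype) := isCyclic_of_surjective _ (MonoidHom.subgroupMap_surjective P.subtype M)
    exact isCyclic_of_injective (Subgroup.inclusion hd) (Subgroup.inclusion_injective hd)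
  haveI : Finite ↥(⁅P, P⁆ : Subgroup Ω) := finite_of_le ((Subgroup.commutator_le_self P).trans hP.1)
  obtain ⟨z', hz'⟩ : ∃ z' : ↥(⁅P, P⁆ : Subgroup Ω), orderOf z' = p := by
    refine exists_prime_orderOf_dvd_card' p ?_
    obtain ⟨k, hk⟩ := IsPGroup.iff_card.1 (hPp.to_subgroup ((⁅P, P⁆ : Subgroup Ω).subgroupOf P))
    rw [Nat.card_congr (Subgroup.subgroupOfEquivOfLe (Subgroup.commutator_le_self P)).toEquiv] at hk
    rw [hk]
    refine dvd_pow_self p fun e => hab (Subgroup.eq_bot_of_card_eq _ ?_)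
    rw [hk, e, pow_zero]
  obtain ⟨z, hz⟩ := z'
  rw [← Subgroup.orderOf_coe] at hz'
  change orderOf z = p at hz'
  have hzu : ∀ x ∈ ⁅P, P⁆, x ^ p = 1 → x ∈ Subgroup.zpowers z := by
    intro x hx hxp
    haveI := Fintype.ofFinite ↥(⁅P, P⁆ : Subgroup Ω)
    set x' : ↥(⁅P, P⁆ : Subgroup Ω) := ⟨x, hx⟩
    set z' : ↥(⁅P, P⁆ : Subgroup Ω) := ⟨z, hz⟩
    have hz'o : orderOf z' = p := by rw [← Subgroup.orderOf_coe]; exact hz'
    suffices h : x' ∈ Subgroup.zpowers z' by
      obtain ⟨i, hi⟩ := Subgroup.mem_zpowers_iff.1 h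
      exact Subgroup.mem_zpowers_iff.2 ⟨i, by simpa [x', z'] using congrArg Subtype.val hi⟩
    by_contra hn
    have hsub : insert x' (Set.toFinset (Subgroup.zpowers z' : Set _)) ⊆
        Finset.univ.filter (fun a : ↥(⁅P, P⁆ : Subgroup Ω) => a ^ p = 1) := by
      intro a ha
      rw [Finset.mem_insert, Set.mem_toFinset, SetLike.mem_coe] at ha
      refine Finset.mem_filter.2 ⟨Finset.mem_univ _, ?_⟩
      rcases ha with rfl | ha
      · exact Subtype.ext hxp
      · obtain ⟨i, rfl⟩ := Subgroup.mem_zpowers_iff.1 ha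
        rw [← zpow_natCast, ← zpow_mul, mul_comm, zpow_mul, zpow_natCast, ← hz'o, pow_orderOf_eq_one, one_zpow]
    have h1 := (Finset.card_le_card hsub).trans (IsCyclic.card_pow_eq_one_le hp.out.pos)
    rw [Finset.card_insert_of_notMem (by simpa using hn), ← Set.ncard_eq_toFinset_card' ,
      ← Nat.card_coe_set_eq] at h1
    change Nat.card ↥(Subgroup.zpowers z') + 1 ≤ p at h1
    rw [Nat.card_zpowers, hz'o] at h1
    omega
  set Z : Subgroup Ω := Subgroup.zpowers z with hZdef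
  have hzP : z ∈ P := Subgroup.commutator_le_self P hz
  have hZP : Z ≤ P := Subgroup.zpowers_le.2 hzP
  have hzN : z ∈ N := hNmem z hzP (hz' ▸ pow_orderOf_eq_one z)
  have hZsc : F.StronglyClosed Z := by
    refine ⟨hZP.trans hP.1, fun R hR φ hφ x => ?_⟩
    have hRN : R ≤ N := hR.trans (Subgroup.zpowers_le.2 hzN)
    obtain ⟨α, hα, h⟩ := exists_aut_of_isNormal hN hRN hφ
    rw [h x]
    exact aut_fix_line hS hF hp2 hP hN hNP hNc hNmem hNexp hNab hz' hz hzu hα (hR x.2)
  have hzS : z ∈ S := hP.1 hzP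
  have hZn := le_normalizer_of_stronglyClosed hZsc
  have hzc : ∀ s ∈ S, s * z * s⁻¹ = z := fun s hs => central_of_normal hS hzS hz'
    (fun s hs => conj_mem_of_normalizer (hZn hs) (Subgroup.mem_zpowers z)) hs
  haveI : (Z.subgroupOf S).Normal := ⟨fun x hx g => Subgroup.mem_subgroupOf.2 (conj_mem_of_normalizer (hZn g.2) (Subgroup.mem_subgroupOf.1 hx))⟩
  set θ := QuotientGroup.mk' (Z.subgroupOf S) with hθ
  have hker : ∀ s : S, θ s = 1 ↔ (s : Ω) ∈ Z := fun s => QuotientGroup.eq_one_iff s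
  set E := factorSystem F θ hker hZsc
  have hE := isFactorSystem_factorSystem (F := F) hker hZsc
  have hEs : E.IsSaturated p := isSaturated_factor hS hF hZsc hE
  have hEp : IsPGroup p θ.range := hS.of_surjective θ.rangeRestrict θ.rangeRestrict_surjective
  haveI : Finite θ.range := Finite.of_surjective θ.rangeRestrict θ.rangeRestrict_surjective
  have hmor := isSurjectiveMorphism_factor hS hF hZsc hE
  set P' := imageAlong θ P with hP'def
  have hpre : preimageAlong θ P' = P := preimageAlong_imageAlong hker hP.1 hZP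
  have hP'S : P' ≤ θ.range := imageAlong_le_range P
  have hP'sc : E.StronglyClosed P' := by
    refine ⟨hP'S, fun R hR φ' hφ' x => ?_⟩
    obtain ⟨hR', φ, hφ, hi⟩ := hφ'
    obtain ⟨d, hd⟩ := exists_section hR' x
    have hdP : (d : Ω) ∈ preimageAlong θ P' := preimageAlong_mono hR d.2
    rw [induced_apply hi d.2 (val_mem hφ d) hd]
    refine ⟨⟨φ d, val_mem hφ d⟩, ?_, rfl⟩
    exact hP.2 _ ((preimageAlong_mono hR).trans hpre.le) φ hφ d
  let f : P →* P' := MonoidHom.codRestrict (θ.comp (Subgroup.inclusion hP.1)) P'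
    fun x => ⟨⟨x, hP.1 x.2⟩, x.2, rfl⟩
  have hf : Function.Surjective f := by
    rintro ⟨_, ⟨s, hs⟩, hsP, rfl⟩
    exact ⟨⟨s, hsP⟩, rfl⟩
  haveI : Finite P' := Finite.of_surjective f hf
  have hlt : Nat.card P' ≤ n := by
    have h1 := Nat.card_le_card_of_surjective f hf
    rcases lt_or_eq_of_le h1 with h2 | h2
    · omega
    · exfalso
      have hinj := ((Nat.bijective_iff_surjective_and_card f).2 ⟨hf, h2.symm⟩).1
      have h3 : (⟨z, hzP⟩ : P) = 1 := hinj (Subtype.ext ((hker _).2 (Subgroup.mem_zpowers z)) |>.trans (map_one f).symm)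
      have h4 : z = 1 := congrArg Subtype.val h3
      rw [h4, orderOf_one] at hz'
      exact hp.out.ne_one hz'.symm
  obtain ⟨C', m, hmono', h0', hC'P, hcomm', hsc', hm'⟩ :=
    ih _ θ.range E P' hEp hEs hP'sc (isMetacyclic_of_surjective hf hm) hlt
  refine ⟨fun i => if i = 0 then ⊥ else preimageAlong θ (C' (i - 1)), m + 1, ?_, rfl, fun i => ?_, fun i => ?_,
    fun i => ?_, ?_⟩
  · intro a b h
    show (if a = 0 then ⊥ else _) ≤ if b = 0 then ⊥ else _
    split_ifs with h1 h2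
    · exact le_rfl
    · exact bot_le
    · omega
    · exact preimageAlong_mono (hmono' (by omega))
  · show (if i = 0 then ⊥ else preimageAlong θ (C' (i - 1))) ≤ P
    split_ifs
    · exact bot_le
    · exact (preimageAlong_mono (hC'P _)).trans hpre.le
  · show ⁅(if i + 1 = 0 then ⊥ else preimageAlong θ (C' (i + 1 - 1))), P⁆ ≤
      (if i = 0 then ⊥ else preimageAlong θ (C' (i - 1)))
    rw [if_neg (Nat.succ_ne_zero i), Nat.add_sub_cancel, Subgroup.commutator_le]
    intro x hx q hq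
    obtain ⟨hxS, hx'⟩ := mem_preimageAlong.1 hx
    split_ifs with h1
    · subst h1
      rw [Subgroup.mem_bot, commutatorElement_eq_one_iff_mul_comm]
      rw [h0', Subgroup.mem_bot, hker] at hx'
      obtain ⟨k, hk⟩ := Subgroup.mem_zpowers_iff.1 hx'
      have h2 : q * z ^ k * q⁻¹ = z ^ k := by rw [← conj_zpow, hzc q (hP.1 hq)]
      change z ^ k = x at hk
      rw [← hk]
      exact (mul_inv_eq_iff_eq_mul.1 h2).symm
    · refine mem_preimageAlong.2 ⟨(⁅(⟨x, hxS⟩ : S), (⟨q, hP.1 hq⟩ : S)⁆).2, ?_⟩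
      show θ ⁅(⟨x, hxS⟩ : S), (⟨q, hP.1 hq⟩ : S)⁆ ∈ C' (i - 1)
      rw [map_commutatorElement]
      refine hcomm' (i - 1) (Subgroup.commutator_mem_commutator ?_ ⟨⟨q, hP.1 hq⟩, hq, rfl⟩)
      rw [show i - 1 + 1 = i by omega]
      exact hx'
  · show F.StronglyClosed (if i = 0 then ⊥ else _)
    split_ifs
    · refine ⟨bot_le, fun R hR φ hφ x => ?_⟩
      rw [Subgroup.mem_bot, show x = 1 from Subtype.ext (Subgroup.mem_bot.1 (hR x.2)), map_one]
    · refine ⟨preimageAlong_le _, fun R hR φ hφ x => ?_⟩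
      obtain ⟨φ', hφ', hi⟩ := hmor.1.2 R φ hφ
      have hle : imageAlong θ R ≤ C' (i - 1) := by
        rintro _ ⟨s, hs, rfl⟩
        obtain ⟨hsS, h⟩ := mem_preimageAlong.1 (hR hs)
        exact h
      obtain ⟨hRS, hφS, hP'', hag⟩ := hi
      refine mem_preimageAlong.2 ⟨hφS x, ?_⟩
      rw [← hag x]
      exact (hsc' (i - 1)).2 _ hle φ' hφ' _
  · show (if m + 1 = 0 then ⊥ else preimageAlong θ (C' (m + 1 - 1))) = P
    rw [if_neg (Nat.succ_ne_zero m), Nat.add_sub_cancel, hm', hpre]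

theorem isNormal_of_metacyclic {Ω : Type u} [Group Ω] {S : Subgroup Ω} [Finite S] {F : Cfsg.FusionSystem S}
    {P : Subgroup Ω} (hp2 : p ≠ 2) (hS : IsPGroup p S) (hF : F.IsSaturated p) (hP : F.StronglyClosed P)
    (hm : Cfsg.IsMetacyclic P) : F.IsNormal P := by
  obtain ⟨C, m, hmono, h0, hCP, hcomm, hsc, hCm⟩ := exists_series hp2 _ Ω S F P hS hF hP hm le_rfl
  exact isNormal_of_series hS hF hP C hmono h0 hCP hcomm (fun i => weaklyClosed_of_stronglyClosed (hsc i)) m hCm

end CfsgLib.MetaResistant
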